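import Mathlib
import Groth.Agent.Lib.Lead.Curve.InvMono
import Groth.Agent.Lib.Lead.QC.TensorPow
import Groth.Agent.Lib.Lead.QC.AmpleFinite

/-! # Curves, part A: sections of invertible modules on integral schemes. -/

set_option autoImplicit false
universe u
open CategoryTheory CategoryTheory.Limits AlgebraicGeometry Opposite TopologicalSpace

namespace Groth.Agent.H5.CV

open Groth.Agent.LD Groth.Agent.LD.QC

variable {X : Scheme.{u}}

/-- an isomorphism generates everywhere. -/
lemma genLocus_eq_top_of_isIso {L : X.Modules} (s : unitMod X ⟶ L) [IsIso s] :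
    CohB1.genLocus L s = ⊤ := by
  rw [eq_top_iff, le_genLocus_iff]
  intro V _
  exact app_bijective_of_isIso s V

/-- a section generating everywhere is an isomorphism. -/
lemma isIso_of_genLocus_eq_top {L : X.Modules} (s : unitMod X ⟶ L)
    (h : CohB1.genLocus L s = ⊤) : IsIso s := by
  apply isIso_of_local_bijective
  intro x W hxW
  refine ⟨W, hxW, le_rfl, ?_⟩
  exact (le_genLocus_iff L s ⊤).mp h.ge W le_top

/-- on an integral scheme a nonzero section of an invertible module generates it somewhere. -/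
theorem genLocus_ne_bot_of_ne_zero [IsIntegral X] {L : X.Modules} (hL : PicF.IsInvertible L)
    (s : unitMod X ⟶ L) (hs : s ≠ 0) : ((CohB1.genLocus L s : X.Opens) : Set X).Nonempty := by
  obtain ⟨U, e, hxU, he⟩ := (isInvertible_iff_exists_isBasisOver L).mp hL (genericPoint X)
  obtain ⟨f, hf⟩ := he.exists_coord (SecTwist.val s U)
  have hD := genLocus_inf_eq_basicOpen s he f hf
  have hUne : (U : Set X).Nonempty := ⟨_, hxU⟩
  have hf0 : f ≠ 0 := by
    rintro rfl
    apply hs
    apply hom_eq_zero_of_app_basis_eq_zero (isInvertible_unit X) hL s hUne (isBasisOver_one U)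
    rw [zero_smul] at hf
    exact hf
  haveI : Nonempty U := ⟨⟨_, hxU⟩⟩
  haveI : IsIntegral (U : Scheme.{u}) := inferInstance
  have hne : X.basicOpen f ≠ ⊥ := by
    intro h0
    apply hf0
    have : IsReduced X := inferInstance
    exact (AlgebraicGeometry.basicOpen_eq_bot_iff f).mp h0
  obtain ⟨y, hy⟩ : ((X.basicOpen f : X.Opens) : Set X).Nonempty := by
    rw [Set.nonempty_iff_ne_empty]
    intro h0
    apply hne
    ext z
    simp [h0]
  have hy' : y ∈ CohB1.genLocus L s ⊓ U := by rw [hD]; exact hy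
  exact ⟨y, hy'.1⟩

/-- on an integral scheme the product of two nonzero sections of invertible modules is
nonzero. -/
theorem tmulHom_ne_zero [IsIntegral X] {L M : X.Modules} (hL : PicF.IsInvertible L)
    (hM : PicF.IsInvertible M) (s : unitMod X ⟶ L) (t : unitMod X ⟶ M) (hs : s ≠ 0)
    (ht : t ≠ 0) : SecTwist.tmulHom s t ≠ 0 := by
  intro h0
  have h1 := genLocus_tmulHom hL hM s t
  rw [h0, genLocus_zero _ (isInvertible_tensorMod hL hM)] at h1
  obtain ⟨y, hy1, hy2⟩ := nonempty_preirreducible_inter (CohB1.genLocus L s).2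
    (CohB1.genLocus M t).2 (genLocus_ne_bot_of_ne_zero hL s hs) (genLocus_ne_bot_of_ne_zero hM t ht)
  have : y ∈ (⊥ : X.Opens) := by rw [h1]; exact ⟨hy1, hy2⟩
  exact this

end Groth.Agent.H5.CV

namespace Groth.Agent.H5.CV

open Groth.Agent.LD Groth.Agent.LD.QC

/-- **S1652**: on an integral proper curve, if `L ⊗ M ≅ O` and both have nonzero sections then
`L ≅ O`. -/
theorem iso_structure_of_sections_of_inverse_pair (k : Type u) [Field k] (X : Scheme.{u})
    [X.Over (Spec (CommRingCat.of k))] [IsIntegral X]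
    [IsProper (X ↘ (Spec (CommRingCat.of k)))] (hdim : topologicalKrullDim X ≤ 1)
    (L M : X.Modules) (hL : PicF.IsInvertible L) (hM : PicF.IsInvertible M)
    (hLM : ClSub.IsInverseOf L M)
    (s : Coh.structureModule X ⟶ L) (hs : s ≠ 0) (t : Coh.structureModule X ⟶ M) (ht : t ≠ 0) :
    IsIso s ∧ IsIso t := by
  obtain ⟨e⟩ := hLM
  have hne := tmulHom_ne_zero hL hM s t hs ht
  have h := Groth.Agent.LD.Curve.deg_le_of_ne_zero k X hdim
    (Groth.Agent.LD.Curve.isInvertible_structureModule X) (isInvertible_tensorMod hL hM)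
    (SecTwist.tmulHom s t) hne
  haveI : IsIso (SecTwist.tmulHom s t) := h.2 (Groth.Agent.LD.Curve.deg_iso k X e 1).symm
  have h1 := genLocus_tmulHom hL hM s t
  rw [genLocus_eq_top_of_isIso] at h1
  have hsT : CohB1.genLocus L s = ⊤ := eq_top_iff.mpr (h1.le.trans inf_le_left)
  have htT : CohB1.genLocus M t = ⊤ := eq_top_iff.mpr (h1.le.trans inf_le_right)
  exact ⟨isIso_of_genLocus_eq_top s hsT, isIso_of_genLocus_eq_top t htT⟩

end Groth.Agent.H5.CV
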